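import Cfsg.Agent.H418.K6.Fix

/-!
# S4876, classical rows: the element `u` (helper418)

`exists_u` : `x`, `y` of order `p`, `y` trivial on `[V, x]`, the `p`-subgroups of `G` trivial on `[V, x]` or on `[V, y]` are cyclic:
there is a `p`-element `u` of `G`, `y ∈ ⟨u⟩`, trivial on `[V, x]` and on `C_V(y)`, such that the `p`-subgroups of `C_G(u)` are
generated modulo `⟨u⟩` by one of their elements.
-/

set_option autoImplicit false

namespace Cfsg.Agent.H418.K6

open Polynomial Module Cfsg.Agent.H418.KB Subgroup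

section group

variable {A : Type*} [Group A]

theorem zpow_comm {a b : A} (h : a * b = b * a) (i j : ℤ) : a ^ i * b ^ j = b ^ j * a ^ i :=
  ((show Commute a b from h).zpow_left i).zpow_right j

/-- the subgroup generated by two commuting elements -/
def two (a b : A) (h : a * b = b * a) : Subgroup A where
  carrier := {r | ∃ i j : ℤ, r = a ^ i * b ^ j}
  one_mem' := ⟨0, 0, by simp⟩
  mul_mem' := by
    rintro _ _ ⟨i, j, rfl⟩ ⟨k, l, rfl⟩
    refine ⟨i + k, j + l, ?_⟩
    calc a ^ i * b ^ j * (a ^ k * b ^ l) = a ^ i * (b ^ j * a ^ k) * b ^ l := by group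
      _ = a ^ i * (a ^ k * b ^ j) * b ^ l := by rw [zpow_comm h]
      _ = a ^ (i + k) * b ^ (j + l) := by rw [zpow_add, zpow_add]; group
  inv_mem' := by
    rintro _ ⟨i, j, rfl⟩
    refine ⟨-i, -j, ?_⟩
    rw [mul_inv_rev, zpow_neg, zpow_neg, ← zpow_neg, ← zpow_neg, zpow_comm h]

theorem left_mem_two {a b : A} (h : a * b = b * a) : a ∈ two a b h := ⟨1, 0, by simp⟩
theorem right_mem_two {a b : A} (h : a * b = b * a) : b ∈ two a b h := ⟨0, 1, by simp⟩

theorem isPGroup_two {p k l : ℕ} {a b : A} (h : a * b = b * a) (ha : a ^ p ^ k = 1) (hb : b ^ p ^ l = 1) :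
    IsPGroup p (two a b h) := by
  rintro ⟨_, i, j, rfl⟩
  refine ⟨k + l, ?_⟩
  apply Subtype.ext
  show (a ^ i * b ^ j) ^ p ^ (k + l) = 1
  have hc : Commute (a ^ i) (b ^ j) := zpow_comm h i j
  have h1 : (a ^ i) ^ p ^ (k + l) = 1 := by
    rw [← zpow_natCast, ← zpow_mul, mul_comm, zpow_mul, zpow_natCast, pow_add, pow_mul, ha, one_pow, one_zpow]
  have h3 : (b ^ j) ^ p ^ (k + l) = 1 := by
    rw [← zpow_natCast, ← zpow_mul, mul_comm, zpow_mul, zpow_natCast, pow_add, mul_comm (p ^ k), pow_mul, hb, one_pow,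
      one_zpow]
  rw [hc.mul_pow, h1, h3, one_mul]

/-- in a cyclic group two subgroups of order `p` are equal -/
theorem mem_of_cyclic {p : ℕ} (hp : p.Prime) [Finite A] {R : Subgroup A} (hR : IsCyclic R) {w y : A} (hw : w ∈ R)
    (hy : y ∈ R) (hwo : orderOf w = p) (hyp : y ^ p = 1) : y ∈ zpowers w := by
  classical
  have := Fintype.ofFinite R
  let w' : R := ⟨w, hw⟩
  let y' : R := ⟨y, hy⟩
  have hwo' : orderOf w' = p := by rw [← hwo, ← Subgroup.orderOf_coe]
  have h1 := IsCyclic.card_pow_eq_one_le (α := R) (n := p) hp.pos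
  have h3 : (zpowers w' : Set R).toFinset ⊆ Finset.univ.filter fun a : R => a ^ p = 1 := by
    intro a ha
    rw [Set.mem_toFinset] at ha
    obtain ⟨i, rfl⟩ := ha
    rw [Finset.mem_filter]
    refine ⟨Finset.mem_univ _, ?_⟩
    show (w' ^ i) ^ p = 1
    rw [← zpow_natCast, ← zpow_mul, mul_comm, zpow_mul, zpow_natCast, ← hwo', pow_orderOf_eq_one, one_zpow]
  have h4 : (zpowers w' : Set R).toFinset.card = p := by
    rw [Set.toFinset_card, ← Nat.card_eq_fintype_card]
    show Nat.card (zpowers w') = p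
    rw [Nat.card_zpowers, hwo']
  have h5 := Finset.eq_of_subset_of_card_le h3 (by rw [h4]; exact h1)
  have h6 : y' ∈ (zpowers w' : Set R).toFinset := by
    rw [h5, Finset.mem_filter]
    exact ⟨Finset.mem_univ _, Subtype.ext hyp⟩
  rw [Set.mem_toFinset] at h6
  obtain ⟨i, hi⟩ := h6
  exact ⟨i, congrArg Subtype.val hi⟩

end group

section u

variable {F V : Type*} [Field F] [Fintype F] [AddCommGroup V] [Module F V] [FiniteDimensional F V] {p : ℕ}
  {B : V →ₗ[F] V →ₗ[F] F} {G : Subgroup (V ≃ₗ[F] V)} (hp : p.Prime) (hpF : ¬ p ∣ Fintype.card F)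

/-- `g` on `C_V(y)`, `1` on `[V, y]` -/
noncomputable abbrev bb {y : V ≃ₗ[F] V} (hyp : y ^ p = 1) {g : V ≃ₗ[F] V} (h : g * y = y * g) : V ≃ₗ[F] V :=
  bl hp hpF hyp (X - 1) h

omit [FiniteDimensional F V] in
theorem bb_fix {y : V ≃ₗ[F] V} (hyp : y ^ p = 1) {g : V ≃ₗ[F] V} (h : g * y = y * g) {v : V} (hv : y v = v) :
    bb hp hpF hyp h v = g v := by
  refine bl_ker hp hpF hyp _ ?_
  rw [aeval_X_sub_one, hv, sub_self]

omit [FiniteDimensional F V] in
theorem bb_range {y : V ≃ₗ[F] V} (hyp : y ^ p = 1) {g : V ≃ₗ[F] V} (h : g * y = y * g) (v : V) :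
    bb hp hpF hyp h (y v - v) = y v - v := by
  rw [← aeval_X_sub_one]
  exact bl_range hp hpF hyp _ v

omit [FiniteDimensional F V] in
theorem bb_mem (hG : Spl B G) {y : V ≃ₗ[F] V} (hy : y ∈ G) (hyp : y ^ p = 1) {g : V ≃ₗ[F] V} (hg : g ∈ G)
    (h : g * y = y * g) : bb hp hpF hyp h ∈ G := by
  refine bl_mem hp hpF hyp _ hG hy hg ?_
  intro u hu
  rw [aeval_X_sub_one, sub_eq_zero] at hu ⊢
  rw [← hu, ← LinearEquiv.mul_apply, inv_mul_cancel, one_app, hu]

omit [FiniteDimensional F V] in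
theorem bb_mul {y : V ≃ₗ[F] V} (hyp : y ^ p = 1) {g h : V ≃ₗ[F] V} (hg : g * y = y * g) (hh : h * y = y * h)
    (hgh : (g * h) * y = y * (g * h)) : bb hp hpF hyp hgh = bb hp hpF hyp hg * bb hp hpF hyp hh := by
  refine LinearEquiv.ext fun v => ?_
  obtain ⟨a, z, ha, rfl⟩ := dec hp hpF hyp v
  have h1 : y (h a) = h a := by rw [← LinearEquiv.mul_apply, ← hh, LinearEquiv.mul_apply, ha]
  rw [map_add, LinearEquiv.mul_apply, map_add, map_add, bb_fix hp hpF hyp hgh ha, bb_fix hp hpF hyp hh ha,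
    bb_fix hp hpF hyp hg h1, bb_range, bb_range, bb_range]
  rfl

omit [FiniteDimensional F V] in
/-- `bb g` commutes with what commutes with `g` and `y` -/
theorem bb_comm {y : V ≃ₗ[F] V} (hyp : y ^ p = 1) {g k : V ≃ₗ[F] V} (hg : g * y = y * g) (hk : k * y = y * k)
    (hkg : k * g = g * k) : k * bb hp hpF hyp hg = bb hp hpF hyp hg * k := by
  refine LinearEquiv.ext fun v => ?_
  obtain ⟨a, z, ha, rfl⟩ := dec hp hpF hyp v
  have h1 : y (k a) = k a := by rw [← LinearEquiv.mul_apply, ← hk, LinearEquiv.mul_apply, ha]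
  have h3 : k (y z - z) = y (k z) - k z := by
    rw [map_sub, ← LinearEquiv.mul_apply, hk, LinearEquiv.mul_apply]
  rw [LinearEquiv.mul_apply, LinearEquiv.mul_apply, map_add, map_add, map_add, map_add, bb_fix hp hpF hyp hg ha,
    bb_range, h3, bb_range, bb_fix hp hpF hyp hg h1, ← LinearEquiv.mul_apply, hkg, LinearEquiv.mul_apply]

omit [FiniteDimensional F V] in
theorem bb_pow {y : V ≃ₗ[F] V} (hyp : y ^ p = 1) {g : V ≃ₗ[F] V} (h : g * y = y * g) {n : ℕ} (hn : g ^ n = 1) :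
    (bb hp hpF hyp h) ^ n = 1 := bl_pow hp hpF hyp h hn

include hp hpF in
/-- **The element `u`.** -/
theorem exists_u (hG : Spl B G) {x y : V ≃ₗ[F] V} (hx : x ∈ G) (hxp : x ^ p = 1) (hy : y ∈ G) (hyp : y ^ p = 1)
    (hy1 : y ≠ 1) (htr : ∀ v, y (x v - v) = x v - v)
    (hcx : ∀ R : Subgroup (V ≃ₗ[F] V), R ≤ G → IsPGroup p R → (∀ r ∈ R, ∀ v, r (x v - v) = x v - v) → IsCyclic R)
    (hcy : ∀ R : Subgroup (V ≃ₗ[F] V), R ≤ G → IsPGroup p R → (∀ r ∈ R, ∀ v, r (y v - v) = y v - v) → IsCyclic R) :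
    ∃ u ∈ G, (∃ k, orderOf u = p ^ k) ∧ y ∈ zpowers u ∧ (∀ v, u (x v - v) = x v - v) ∧ (∀ v, y v = v → u v = v) ∧
      ∀ Q : Subgroup (V ≃ₗ[F] V), Q ≤ G → IsPGroup p Q → (∀ h ∈ Q, h * u = u * h) →
        ∃ g ∈ Q, ∀ h ∈ Q, ∃ i k : ℤ, h = g ^ i * u ^ k := by
  have : Fact p.Prime := ⟨hp⟩
  have hfin : Finite V := Module.finite_of_finite F
  have hfinL : Finite (V ≃ₗ[F] V) := Finite.of_injective (fun f => (f : V → V)) DFunLike.coe_injective
  have hxtr := triv_symm hp hpF hG hx hxp hy htr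
  -- the pointwise stabilizer of `[V, x]`
  let L : Subgroup (V ≃ₗ[F] V) :=
    { carrier := {g | g ∈ G ∧ ∀ v, g (x v - v) = x v - v}
      one_mem' := ⟨one_mem _, fun v => rfl⟩
      mul_mem' := by
        rintro a b ⟨ha, ha'⟩ ⟨hb, hb'⟩
        exact ⟨G.mul_mem ha hb, fun v => by rw [LinearEquiv.mul_apply, hb', ha']⟩
      inv_mem' := by
        rintro a ⟨ha, ha'⟩
        refine ⟨G.inv_mem ha, fun v => ?_⟩
        conv_lhs => rw [← ha' v]
        rw [← LinearEquiv.mul_apply, inv_mul_cancel]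
        rfl }
  have hLG : L ≤ G := fun g hg => hg.1
  let y' : L := ⟨y, hy, htr⟩
  have hyP : IsPGroup p (zpowers y') := by
    refine IsPGroup.of_card (n := 1) ?_
    rw [Nat.card_zpowers, pow_one, ← Subgroup.orderOf_coe]
    exact orderOf_eq_prime hyp hy1
  obtain ⟨P, hP⟩ := hyP.exists_le_sylow
  have hPc : IsCyclic (P : Subgroup L) := by
    have h1 : IsCyclic ((P : Subgroup L).map L.subtype) := by
      refine hcx _ ?_ (P.isPGroup'.map _) ?_
      · rintro _ ⟨g, -, rfl⟩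
        exact g.2.1
      · rintro _ ⟨g, -, rfl⟩
        exact g.2.2
    exact isCyclic_of_injective (((P : Subgroup L).equivMapOfInjective _ L.subtype_injective).toMonoidHom)
      (MulEquiv.injective _)
  obtain ⟨u₀, hu₀⟩ := hPc.exists_generator
  have hcardP : orderOf u₀ = Nat.card (P : Subgroup L) := orderOf_eq_card_of_forall_mem_zpowers hu₀
  obtain ⟨k₀, hk₀⟩ := IsPGroup.iff_card.1 P.isPGroup'
  obtain ⟨u, hu⟩ : ∃ u : V ≃ₗ[F] V, u = (u₀ : L) := ⟨_, rfl⟩
  have huo : orderOf u = p ^ k₀ := by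
    rw [hu, Subgroup.orderOf_coe, Subgroup.orderOf_coe, hcardP, hk₀]
  have huL : u ∈ L := by rw [hu]; exact (u₀ : L).2
  have hyu : y ∈ zpowers u := by
    obtain ⟨i, hi⟩ := hu₀ ⟨y', hP (mem_zpowers y')⟩
    refine ⟨i, ?_⟩
    have h1 := congrArg (fun t : P => ((t : L) : V ≃ₗ[F] V)) hi
    simpa [hu] using h1
  -- maximality
  have hmax : ∀ g ∈ L, (∃ k, g ^ p ^ k = 1) → orderOf g ≤ orderOf u := by
    rintro g hg ⟨k, hk⟩
    have h1 : IsPGroup p (zpowers (⟨g, hg⟩ : L)) := by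
      obtain ⟨j, -, hj⟩ := (Nat.dvd_prime_pow hp).1 (orderOf_dvd_of_pow_eq_one hk)
      refine IsPGroup.of_card (n := j) ?_
      rw [Nat.card_zpowers, ← Subgroup.orderOf_coe]
      exact hj
    obtain ⟨Q, hQ⟩ := h1.exists_le_sylow
    have h3 : orderOf g = Nat.card (zpowers (⟨g, hg⟩ : L)) := by
      rw [Nat.card_zpowers, ← Subgroup.orderOf_coe]
    rw [h3, huo, ← hk₀]
    refine (Subgroup.card_le_of_le hQ).trans (le_of_eq ?_)
    exact Nat.card_congr (Sylow.equiv Q P).toEquiv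
  have huk : u ^ p ^ k₀ = 1 := by rw [← huo]; exact pow_orderOf_eq_one u
  -- a `p`-element of `L` commuting with `u` lies in `⟨u⟩`
  have hmem : ∀ g ∈ L, ∀ k, g ^ p ^ k = 1 → g * u = u * g → g ∈ zpowers u := by
    intro g hg k hk hgu
    have hPR := isPGroup_two hgu hk huk
    have hRL : two g u hgu ≤ L := by
      rintro _ ⟨i, j, rfl⟩
      exact L.mul_mem (L.zpow_mem hg i) (L.zpow_mem huL j)
    have hRc : IsCyclic (two g u hgu) := hcx _ (hRL.trans hLG) hPR fun r hr => (hRL hr).2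
    obtain ⟨w, hw⟩ := hRc.exists_generator
    have hwL : (w : V ≃ₗ[F] V) ∈ L := hRL w.2
    obtain ⟨l, hl⟩ := hPR w
    have h1 : orderOf (w : V ≃ₗ[F] V) ≤ orderOf u := hmax w hwL ⟨l, by
      have := congrArg (Subtype.val) hl
      simpa using this⟩
    obtain ⟨i, hi⟩ := hw ⟨u, right_mem_two hgu⟩
    have hi' : (w : V ≃ₗ[F] V) ^ i = u := congrArg Subtype.val hi
    have h3 : zpowers u ≤ zpowers (w : V ≃ₗ[F] V) := by
      rw [zpowers_le]
      exact ⟨i, hi'⟩
    have h4 : zpowers u = zpowers (w : V ≃ₗ[F] V) := by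
      apply Subgroup.eq_of_le_of_card_ge h3
      rw [Nat.card_zpowers, Nat.card_zpowers]
      exact h1
    rw [h4]
    obtain ⟨j, hj⟩ := hw ⟨g, left_mem_two hgu⟩
    exact ⟨j, congrArg Subtype.val hj⟩
  have huy : u * y = y * u := by
    obtain ⟨i, rfl⟩ := hyu
    exact (Commute.refl u).zpow_right i
  -- `u` is trivial on `C_V(y)`
  have hufix : ∀ v, y v = v → u v = v := by
    set s := bb hp hpF hyp huy with hs
    have hsG : s ∈ G := bb_mem hp hpF hG hy hyp huL.1 huy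
    have hsk : s ^ p ^ k₀ = 1 := bb_pow hp hpF hyp huy huk
    have hsx : ∀ v, s (x v - v) = x v - v := fun v => by rw [hs, bb_fix hp hpF hyp huy (htr v), huL.2]
    have hsy : s * y = y * s := by
      have := bb_comm hp hpF hyp huy (k := y) rfl huy.symm
      exact this.symm
    have hs1 : s = 1 := by
      by_contra hs1
      obtain ⟨j, -, hj⟩ := (Nat.dvd_prime_pow hp).1 (orderOf_dvd_of_pow_eq_one hsk)
      have hj0 : j ≠ 0 := by
        rintro rfl
        rw [pow_zero, orderOf_eq_one_iff] at hj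
        exact hs1 hj
      have hwo : orderOf (s ^ p ^ (j - 1)) = p := by
        rw [orderOf_pow_of_dvd (pow_ne_zero _ hp.ne_zero) (by rw [hj]; exact pow_dvd_pow p (by omega)), hj,
          Nat.pow_div (by omega) hp.pos, show j - (j - 1) = 1 by omega, pow_one]
      have hRc : IsCyclic (two s y hsy) := by
        refine hcx _ ?_ (isPGroup_two (k := k₀) (l := 1) hsy hsk (by rw [pow_one]; exact hyp)) ?_
        · rintro _ ⟨i, j, rfl⟩
          exact G.mul_mem (G.zpow_mem hsG i) (G.zpow_mem hy j)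
        · have hle : two s y hsy ≤ L := by
            rintro _ ⟨i, j, rfl⟩
            exact L.mul_mem (L.zpow_mem ⟨hsG, hsx⟩ i) (L.zpow_mem ⟨hy, htr⟩ j)
          exact fun r hr => (hle hr).2
      have h1 := mem_of_cyclic hp hRc ((two s y hsy).pow_mem (left_mem_two hsy) _) (right_mem_two hsy) hwo hyp
      -- `s` is trivial on `[V, y]`, hence `y` too
      have hst : ∀ r ∈ zpowers s, ∀ v, r (y v - v) = y v - v := by
        rintro _ ⟨i, rfl⟩ v
        have h5 : s (y v - v) = y v - v := bb_range hp hpF hyp huy v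
        show (s ^ i) (y v - v) = y v - v
        have h6 : s⁻¹ (y v - v) = y v - v := by
          conv_lhs => rw [← h5]
          rw [← LinearEquiv.mul_apply, inv_mul_cancel]
          rfl
        have h7 : ∀ n : ℕ, (s ^ n) (y v - v) = y v - v := by
          intro n
          induction n with
          | zero => rfl
          | succ n ih => rw [pow_succ, LinearEquiv.mul_apply, h5, ih]
        have h8 : ∀ n : ℕ, (s⁻¹ ^ n) (y v - v) = y v - v := by
          intro n
          induction n with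
          | zero => rfl
          | succ n ih => rw [pow_succ, LinearEquiv.mul_apply, h6, ih]
        rcases Int.eq_nat_or_neg i with ⟨n, rfl | rfl⟩
        · rw [zpow_natCast, h7]
        · rw [zpow_neg, zpow_natCast, ← inv_pow, h8]
      have h9 : y ∈ zpowers s := by
        obtain ⟨i, hi⟩ := h1
        have hi' : (s ^ p ^ (j - 1)) ^ i = y := hi
        rw [← hi', ← zpow_natCast, ← zpow_mul]
        exact zpow_mem (mem_zpowers s) _
      apply hy1
      refine LinearEquiv.ext fun v => ?_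
      have h10 := inter hp hpF hyp (s := y v - v) (z := v) (hst y h9 v) rfl
      rw [sub_eq_zero] at h10
      exact h10
    intro v hv
    have h1 := bb_fix hp hpF hyp huy hv
    rw [← h1, ← hs, hs1]
    rfl
  refine ⟨u, huL.1, ⟨k₀, huo⟩, hyu, huL.2, hufix, ?_⟩
  intro Q hQG hQ hQu
  have hQy : ∀ h ∈ Q, h * y = y * h := by
    intro h hh
    obtain ⟨i, rfl⟩ := hyu
    exact (show Commute h u from hQu h hh).zpow_right i
  -- the restriction to `C_V(y)`
  let f : Q →* (V ≃ₗ[F] V) :=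
    { toFun := fun h => bb hp hpF hyp (hQy h h.2)
      map_one' := by
        refine LinearEquiv.ext fun v => ?_
        obtain ⟨a, z, ha, rfl⟩ := dec hp hpF hyp v
        rw [map_add, bb_fix hp hpF hyp _ ha, bb_range]
        rfl
      map_mul' := fun a b => bb_mul hp hpF hyp _ _ _ }
  have hf : ∀ h : Q, f h = bb hp hpF hyp (hQy h h.2) := fun _ => rfl
  have hfc : IsCyclic f.range := by
    refine hcy _ ?_ ?_ ?_
    · rintro _ ⟨h, rfl⟩
      exact bb_mem hp hpF hG hy hyp (hQG h.2) (hQy h h.2)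
    · exact hQ.of_surjective f.rangeRestrict f.rangeRestrict_surjective
    · rintro _ ⟨h, rfl⟩ v
      exact bb_range hp hpF hyp (hQy h h.2) v
  obtain ⟨⟨_, g, rfl⟩, hg⟩ := hfc.exists_generator
  -- the other factor lies in `⟨u⟩`
  have hbr : ∀ h : Q, (h : V ≃ₗ[F] V) * (f h)⁻¹ ∈ zpowers u := by
    intro h
    have hhy := hQy h h.2
    have hfh : (h : V ≃ₗ[F] V) * f h = f h * h := bb_comm hp hpF hyp hhy hhy rfl
    obtain ⟨k, hk⟩ := hQ h
    have hk' : (h : V ≃ₗ[F] V) ^ p ^ k = 1 := by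
      have := congrArg Subtype.val hk
      simpa using this
    have hfk : (f h) ^ p ^ k = 1 := bb_pow hp hpF hyp hhy hk'
    have hc : Commute (h : V ≃ₗ[F] V) (f h)⁻¹ := (show Commute (h : V ≃ₗ[F] V) (f h) from hfh).inv_right
    refine hmem _ ⟨G.mul_mem (hQG h.2) (G.inv_mem (bb_mem hp hpF hG hy hyp (hQG h.2) hhy)), fun v => ?_⟩ k ?_ ?_
    · -- trivial on `C_V(y)`, which contains `[V, x]`
      have key : ∀ w, y w = w → ((h : V ≃ₗ[F] V) * (f h)⁻¹) w = w := by
        intro w hw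
        have h1 : y ((h : V ≃ₗ[F] V)⁻¹ w) = (h : V ≃ₗ[F] V)⁻¹ w := by
          have h3 : (h : V ≃ₗ[F] V)⁻¹ * y = y * (h : V ≃ₗ[F] V)⁻¹ :=
            ((show Commute (h : V ≃ₗ[F] V) y from hhy).inv_left)
          rw [← LinearEquiv.mul_apply, ← h3, LinearEquiv.mul_apply, hw]
        have h4 : (f h) ((h : V ≃ₗ[F] V)⁻¹ w) = w := by
          rw [hf, bb_fix hp hpF hyp hhy h1, ← LinearEquiv.mul_apply, mul_inv_cancel]
          rfl
        have h5 : (f h)⁻¹ w = (h : V ≃ₗ[F] V)⁻¹ w := by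
          conv_lhs => rw [← h4]
          rw [← LinearEquiv.mul_apply, inv_mul_cancel]
          rfl
        rw [LinearEquiv.mul_apply, h5, ← LinearEquiv.mul_apply, mul_inv_cancel]
        rfl
      exact key _ (htr v)
    · rw [hc.mul_pow, hk', inv_pow, hfk, inv_one, one_mul]
    · have h1 : u * f h = f h * u := bb_comm hp hpF hyp hhy huy (hQu h h.2).symm
      have h3 : Commute u (f h)⁻¹ := (show Commute u (f h) from h1).inv_right
      have h4 : Commute u (h : V ≃ₗ[F] V) := (hQu h h.2).symm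
      exact ((h4.mul_right h3).eq).symm
  refine ⟨g, g.2, fun h hh => ?_⟩
  obtain ⟨i, hi⟩ := hg ⟨f ⟨h, hh⟩, ⟨⟨h, hh⟩, rfl⟩⟩
  have hi' : (f g) ^ i = f ⟨h, hh⟩ := congrArg Subtype.val hi
  obtain ⟨a, ha⟩ := hbr ⟨h, hh⟩
  obtain ⟨b, hb⟩ := hbr g
  have ha' : u ^ a = h * (f ⟨h, hh⟩)⁻¹ := ha
  have hb' : u ^ b = (g : V ≃ₗ[F] V) * (f g)⁻¹ := hb
  have h1 : h = u ^ a * (f g) ^ i := by rw [ha', hi', inv_mul_cancel_right]
  have h3 : f g = u ^ (-b) * g := by rw [zpow_neg, hb', mul_inv_rev, inv_inv]; group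
  have hcug : Commute (u ^ (-b)) (g : V ≃ₗ[F] V) := ((show Commute u (g : V ≃ₗ[F] V) from (hQu g g.2).symm).zpow_left _)
  refine ⟨i, a + (-b) * i, ?_⟩
  rw [h1, h3, hcug.mul_zpow, ← zpow_mul, ← mul_assoc, ← zpow_add]
  exact (((show Commute u (g : V ≃ₗ[F] V) from (hQu g g.2).symm).zpow_left _).zpow_right _).eq

end u

end Cfsg.Agent.H418.K6
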