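import Cfsg.Agent.H418.KB.Core
import Cfsg.Agent.H560.KB.Conj

/-!
# S4876, classical rows: fixed spaces and minimal pairs (helper418)

`Spl B G`, `x` of order `p`, `y` trivial on `[V, x]`: `x` is trivial on `[V, y]`, `fixs (x * y) = fixs x ⊓ fixs y`;
`exists_min` : a pair `x`, `y` of homogeneous elements of order `p`, `y` trivial on `[V, x]`, `fixs x` of minimal dimension;
`cyc_left`, `cyc_right` : if `fixs x` and `fixs y` have the same dimension, the `p`-subgroups of `G` trivial on `[V, x]` or on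
`[V, y]` are cyclic.
-/

set_option autoImplicit false

namespace Cfsg.Agent.H418.K6

open Polynomial Module Cfsg.Agent.H418.KB

section basic

variable {F V : Type*} [Field F] [Fintype F] [AddCommGroup V] [Module F V] {p : ℕ}
  {B : V →ₗ[F] V →ₗ[F] F} {G : Subgroup (V ≃ₗ[F] V)} (hp : p.Prime) (hpF : ¬ p ∣ Fintype.card F)

include hp hpF in
theorem dec {x : V ≃ₗ[F] V} (hxp : x ^ p = 1) (v : V) : ∃ a z, x a = a ∧ v = a + (x z - z) := by
  obtain ⟨z, hz⟩ := range_pr (x := x) (f := X - 1) hp v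
  have h1 := ker_pr (x := x) (f := X - 1) hp hpF hxp v
  rw [aeval_X_sub_one, sub_eq_zero] at h1
  refine ⟨_, z, h1, ?_⟩
  rw [← aeval_X_sub_one x z, ← hz, sub_add_cancel]

include hp hpF in
theorem inter {x : V ≃ₗ[F] V} (hxp : x ^ p = 1) {s z : V} (h1 : x s = s) (h3 : s = x z - z) : s = 0 := by
  have h4 : aeval (el x) (X - 1 : F[X]) (aeval (el x) (X - 1 : F[X]) z) = 0 := by
    rw [aeval_X_sub_one x z, ← h3, aeval_X_sub_one, h1, sub_self]
  have h5 := eq_zero_of_sq (two_le_NN (F := F) hp) (frob hp hpF hxp _) h4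
  rw [aeval_X_sub_one] at h5
  rw [h3, h5]

include hp hpF in
/-- an element trivial on `fixs x` and on `[V, x]` -/
theorem eq_one_of {x y : V ≃ₗ[F] V} (hxp : x ^ p = 1) (h1 : ∀ v, x v = v → y v = v)
    (h2 : ∀ v, y (x v - v) = x v - v) : y = 1 := by
  refine LinearEquiv.ext fun v => ?_
  obtain ⟨a, z, ha, rfl⟩ := dec hp hpF hxp v
  rw [map_add, h1 a ha, h2]
  rfl

variable [FiniteDimensional F V]

include hp hpF in
theorem triv_symm (hG : Spl B G) {x y : V ≃ₗ[F] V} (hx : x ∈ G) (hxp : x ^ p = 1) (hy : y ∈ G)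
    (htr : ∀ v, y (x v - v) = x v - v) (v : V) : x (y v - v) = y v - v := by
  have hc := comm_of_triv hG hp hpF hx hxp hy htr
  obtain ⟨a, z, ha, rfl⟩ := dec hp hpF hxp v
  have h1 : y (a + (x z - z)) - (a + (x z - z)) = y a - a := by
    rw [map_add, htr]
    abel
  rw [h1, map_sub, ha, ← LinearEquiv.mul_apply, ← hc, LinearEquiv.mul_apply, ha]

include hp hpF in
theorem fixs_mul (hG : Spl B G) {x y : V ≃ₗ[F] V} (hx : x ∈ G) (hxp : x ^ p = 1) (hy : y ∈ G)
    (htr : ∀ v, y (x v - v) = x v - v) : fixs (x * y) = fixs x ⊓ fixs y := by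
  have hc := comm_of_triv hG hp hpF hx hxp hy htr
  apply le_antisymm
  · intro v hv
    rw [mem_fixs] at hv
    obtain ⟨a, z, ha, hv1⟩ := dec hp hpF hxp v
    have h0 : x (y a) = y a := by rw [← LinearEquiv.mul_apply, ← hc, LinearEquiv.mul_apply, ha]
    have h1 : (x * y) v = y a + x (x z - z) := by
      rw [hv1, LinearEquiv.mul_apply, map_add, map_add, h0, htr]
    rw [h1, hv1] at hv
    have h2 : y a - a = -(x (x z - z) - (x z - z)) := by
      rw [eq_neg_iff_add_eq_zero]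
      rw [← sub_eq_zero] at hv
      rw [← hv]
      abel
    have h3 : x (x z - z) - (x z - z) = 0 := by
      refine inter hp hpF hxp (z := x z - z) ?_ rfl
      have : x (x z - z) - (x z - z) = -(y a - a) := by rw [h2, neg_neg]
      rw [this, map_neg, map_sub, h0, ha]
    have h4 : x z - z = 0 := inter hp hpF hxp (z := z) (sub_eq_zero.1 h3) rfl
    rw [h3, neg_zero, sub_eq_zero] at h2
    rw [h4, add_zero] at hv1
    rw [hv1]
    exact ⟨mem_fixs.2 ha, mem_fixs.2 h2⟩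
  · rintro v ⟨h1, h2⟩
    rw [mem_fixs, LinearEquiv.mul_apply, mem_fixs.1 h2, mem_fixs.1 h1]

include hp hpF in
theorem fixs_mul_lt (hG : Spl B G) {x y : V ≃ₗ[F] V} (hx : x ∈ G) (hxp : x ^ p = 1) (hy : y ∈ G)
    (htr : ∀ v, y (x v - v) = x v - v) (hy1 : y ≠ 1) : fixs (x * y) < fixs x := by
  refine lt_of_le_of_ne (by rw [fixs_mul hp hpF hG hx hxp hy htr]; exact inf_le_left) fun h => hy1 ?_
  refine eq_one_of hp hpF hxp (fun v hv => ?_) htr
  have h1 : v ∈ fixs (x * y) := by rw [h]; exact mem_fixs.2 hv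
  rw [fixs_mul hp hpF hG hx hxp hy htr] at h1
  exact mem_fixs.1 h1.2

include hp hpF in
theorem fixs_mul_lt' (hG : Spl B G) {x y : V ≃ₗ[F] V} (hx : x ∈ G) (hxp : x ^ p = 1) (hy : y ∈ G)
    (htr : ∀ v, y (x v - v) = x v - v) (hx1 : x ≠ 1) : fixs (x * y) < fixs y := by
  refine lt_of_le_of_ne (by rw [fixs_mul hp hpF hG hx hxp hy htr]; exact inf_le_right) fun h => hx1 ?_
  refine LinearEquiv.ext fun v => ?_
  have h1 : x v - v ∈ fixs (x * y) := by rw [h]; exact mem_fixs.2 (htr v)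
  rw [fixs_mul hp hpF hG hx hxp hy htr] at h1
  have h2 := inter hp hpF hxp (mem_fixs.1 h1.1) rfl
  rw [sub_eq_zero] at h2
  exact h2

end basic

section minimal

variable {F V : Type*} [Field F] [Fintype F] [AddCommGroup V] [Module F V] [FiniteDimensional F V] {p : ℕ} {K : Type*}
  [Field K] [Algebra F K] [FiniteDimensional F K] {ζ : K} {B : V →ₗ[F] V →ₗ[F] F} {G : Subgroup (V ≃ₗ[F] V)}
  (hp : p.Prime) (h2 : 2 < p) (hpF : ¬ p ∣ Fintype.card F) (hζ : IsPrimitiveRoot ζ p)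

omit [FiniteDimensional F V] in
include hp hpF hζ in
/-- a homogeneous part -/
theorem exists_hom (hG : Spl B G) {y : V ≃ₗ[F] V} (hy : y ∈ G) (hyp : y ^ p = 1) (hy1 : y ≠ 1) :
    ∃ e, e ∈ G ∧ e ^ p = 1 ∧ e ≠ 1 ∧ Hg p ζ e ∧ ∀ v, y v = v → e v = v := by
  obtain ⟨i, hi, u, hu0, hu⟩ := eig hp hpF hζ hyp hy1
  obtain ⟨e, he⟩ : ∃ e, e = y ^ i := ⟨_, rfl⟩
  rw [← he] at hu
  have heG : e ∈ G := by rw [he]; exact G.pow_mem hy i
  have hep : e ^ p = 1 := by rw [he, ← pow_mul, mul_comm, pow_mul, hyp, one_pow]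
  have hefix : ∀ v, y v = v → e v = v := by
    intro v hv
    rw [he]
    clear he hu hi
    induction i with
    | zero => rfl
    | succ i ih => rw [pow_succ, LinearEquiv.mul_apply, hv, ih]
  have dece : ∀ v, ∃ k r, aeval (el e) (fz F p ζ) k = 0 ∧ v = k + aeval (el e) (fz F p ζ) r := by
    intro v
    obtain ⟨r, hr⟩ := range_pr (x := e) (f := fz F p ζ) hp v
    exact ⟨_, r, ker_pr (x := e) (f := fz F p ζ) hp hpF hep v, by rw [← hr, sub_add_cancel]⟩
  obtain ⟨e', he'⟩ : ∃ e', e' = bl hp hpF hep (fz F p ζ) (rfl : e * e = e * e) := ⟨_, rfl⟩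
  have he'k : ∀ k, aeval (el e) (fz F p ζ) k = 0 → e' k = e k := by
    intro k hk
    rw [he']
    exact bl_ker hp hpF hep _ hk
  have he'r : ∀ r, e' (aeval (el e) (fz F p ζ) r) = aeval (el e) (fz F p ζ) r := by
    intro r
    rw [he']
    exact bl_range hp hpF hep _ r
  have he'G : e' ∈ G := by
    rw [he']
    refine bl_mem hp hpF hep _ hG heG heG ?_
    intro u hu
    rw [fz_inv hp hep]
    exact hu
  have he'p : e' ^ p = 1 := by
    rw [he']
    exact bl_pow hp hpF hep _ hep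
  have hc1 := fz_one (F := F) hp hpF hζ
  have he'fix : ∀ v, e v = v → e' v = v := by
    intro v hv
    have h1 := aeval_fixed (fz F p ζ) hv
    have h3 : v = aeval (el e) (fz F p ζ) (((fz F p ζ).eval 1)⁻¹ • v) := by
      rw [map_smul, h1, smul_smul, inv_mul_cancel₀ hc1, one_smul]
    rw [h3]
    exact he'r _
  have he'd : ∀ v, ∃ k, aeval (el e) (fz F p ζ) k = 0 ∧ e' v - v = e k - k := by
    intro v
    obtain ⟨k, r, hk, hv⟩ := dece v
    refine ⟨k, hk, ?_⟩
    rw [hv, map_add, he'k k hk, he'r]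
    abel
  have hkinv : ∀ k, aeval (el e) (fz F p ζ) k = 0 → aeval (el e) (fz F p ζ) (e k) = 0 := by
    intro k hk
    rw [← self_aeval, hk, map_zero]
  have he'h : Hg p ζ e' := by
    intro v
    obtain ⟨k, hk, hv⟩ := he'd v
    have h1 : aeval (el e) (fz F p ζ) (e k - k) = 0 := by rw [map_sub, hkinv k hk, hk, sub_zero]
    rw [hv]
    have h3 := aeval_congr (x := e') (y := e) (W := LinearMap.ker (aeval (el e) (fz F p ζ))) (fun w hw => he'k w hw)
      (fun w hw => hkinv w hw) (fz F p ζ) (w := e k - k) h1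
    rw [h3, h1]
  have hue : e u ≠ u := by
    intro h
    have h1 := aeval_fixed (fz F p ζ) h
    rw [hu] at h1
    exact smul_ne_zero hc1 hu0 h1.symm
  refine ⟨e', he'G, he'p, ?_, he'h, fun v hv => he'fix v (hefix v hv)⟩
  intro h
  have h3 := he'k u hu
  rw [h] at h3
  exact hue h3.symm

include hp h2 hpF hζ in
/-- the step for `p`-groups -/
theorem step_group (hG : Spl B G) {x : V ≃ₗ[F] V} (hx : x ∈ G) (hxp : x ^ p = 1) (hh : Hg p ζ x)
    {R : Subgroup (V ≃ₗ[F] V)} (hRG : R ≤ G) (hR : IsPGroup p R) (htr : ∀ r ∈ R, ∀ v, r (x v - v) = x v - v)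
    (hnc : ¬ IsCyclic R) : ∃ x' y', Pair G p ζ x' y' ∧ fixs x' < fixs x := by
  have : Fact p.Prime := ⟨hp⟩
  have hfin : Finite V := Module.finite_of_finite F
  have hfinL : Finite (V ≃ₗ[F] V) := Finite.of_injective (fun f => (f : V → V)) DFunLike.coe_injective
  obtain ⟨A, -, ⟨hAc, hAp⟩, hAcard⟩ := Cfsg.Agent.S0126.result (by omega) hR hnc
  have hA1 : Nat.card A ≠ 1 := by
    rw [hAcard]
    have := hp.one_lt
    intro h
    rw [Nat.pow_eq_one] at h
    omega
  obtain ⟨b, hb⟩ : ∃ b : A, b ≠ 1 := by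
    by_contra hno
    push Not at hno
    apply hA1
    rw [Nat.card_eq_one_iff_unique]
    exact ⟨⟨fun x y => by rw [hno x, hno y]⟩, ⟨1⟩⟩
  have hbp : b ^ p = 1 := Subtype.ext (hAp b b.2)
  have hbo : orderOf b = p := orderOf_eq_prime hbp hb
  obtain ⟨a, ha⟩ : ∃ a : A, a ∉ Subgroup.zpowers b := by
    by_contra hno
    push Not at hno
    have h1 : Subgroup.zpowers b = ⊤ := by
      rw [eq_top_iff]
      exact fun x _ => hno x
    have h2 : Nat.card (Subgroup.zpowers b) = p := by rw [Nat.card_zpowers, hbo]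
    rw [h1, Subgroup.card_top, hAcard] at h2
    have := hp.one_lt
    nlinarith
  refine step hp hpF hζ hG hx hxp hh (A := A.map R.subtype) ?_ ?_ ?_ ?_ (a := (a : R)) (b := (b : R))
    ⟨a, a.2, rfl⟩ ⟨b, b.2, rfl⟩ ?_ ?_ ?_
  · rintro _ ⟨a, -, rfl⟩
    exact hRG a.2
  · rintro _ ⟨a, ha, rfl⟩
    have := congrArg R.subtype (hAp a ha)
    simpa using this
  · rintro _ ⟨a, ha, rfl⟩ _ ⟨b, hb, rfl⟩
    have h3 := hAc.is_comm.comm ⟨a, ha⟩ ⟨b, hb⟩
    exact congrArg (fun z : A => R.subtype z) h3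
  · rintro _ ⟨a, -, rfl⟩
    exact htr a a.2
  · intro h
    apply ha
    have : a = 1 := Subtype.ext (Subtype.ext h)
    rw [this]
    exact one_mem _
  · intro i h
    apply ha
    have h3 : a = b ^ i := Subtype.ext (Subtype.ext h)
    rw [h3]
    exact Subgroup.pow_mem _ (Subgroup.mem_zpowers b) i
  · intro h
    exact hb (Subtype.ext (Subtype.ext h))

/-- homogeneous elements, `fixs x` of minimal dimension -/
structure MinPair (G : Subgroup (V ≃ₗ[F] V)) (p : ℕ) (ζ : K) (x y : V ≃ₗ[F] V) : Prop where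
  pair : Pair G p ζ x y
  hom' : Hg p ζ y
  min : ∀ x' y', Pair G p ζ x' y' → finrank F (fixs x) ≤ finrank F (fixs x')

include hp h2 hpF hζ in
/-- the minimal pair -/
theorem exists_min (hG : Spl B G) {R : Subgroup (V ≃ₗ[F] V)} (hRG : R ≤ G) (hR : IsPGroup p R) (hnc : ¬ IsCyclic R) :
    ∃ x y, MinPair G p ζ x y := by
  classical
  obtain ⟨x₁, y₁, hxy, -⟩ := step_group hp h2 hpF hζ hG (one_mem _) (one_pow _) (fun v => by
    rw [one_app, sub_self, map_zero]) hRG hR (fun r _ v => by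
    rw [one_app, sub_self, map_zero]) hnc
  have hne : ∃ n, ∃ x y, Pair G p ζ x y ∧ finrank F (fixs x) = n := ⟨_, x₁, y₁, hxy, rfl⟩
  obtain ⟨x, y, hxy, hn⟩ := Nat.find_spec hne
  obtain ⟨e, heG, hep, he1, heh, hef⟩ := exists_hom hp hpF hζ hG hxy.my hxy.oy hxy.ny
  refine ⟨x, e, ⟨hxy.mx, heG, hxy.ox, hep, hxy.nx, he1, hxy.hom, fun v => hef _ (hxy.triv v)⟩, heh, ?_⟩
  intro x' y' h
  rw [hn]
  exact Nat.find_min' hne ⟨x', y', h, rfl⟩

include hp hpF in
theorem MinPair.symm (hG : Spl B G) {x y : V ≃ₗ[F] V} (h : MinPair G p ζ x y)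
    (he : finrank F (fixs x) = finrank F (fixs y)) : MinPair G p ζ y x :=
  ⟨⟨h.pair.my, h.pair.mx, h.pair.oy, h.pair.ox, h.pair.ny, h.pair.nx, h.hom',
    triv_symm hp hpF hG h.pair.mx h.pair.ox h.pair.my h.pair.triv⟩, h.pair.hom, by rw [← he]; exact h.min⟩

include hp h2 hpF hζ in
theorem MinPair.cyc (hG : Spl B G) {x y : V ≃ₗ[F] V} (h : MinPair G p ζ x y) {R : Subgroup (V ≃ₗ[F] V)} (hRG : R ≤ G)
    (hR : IsPGroup p R) (htr : ∀ r ∈ R, ∀ v, r (x v - v) = x v - v) : IsCyclic R := by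
  by_contra hnc
  obtain ⟨x', y', h1, h3⟩ := step_group hp h2 hpF hζ hG h.pair.mx h.pair.ox h.pair.hom hRG hR htr hnc
  have h4 := h.min x' y' h1
  have h5 := Submodule.finrank_lt_finrank_of_lt h3
  omega

end minimal

end Cfsg.Agent.H418.K6
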