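import Cfsg.Agent.H418.K6.Cyc
import Cfsg.Agent.H806.KB.SpRow
import Cfsg.Agent.H166.K6.Fus
import Cfsg.Agent.H166.K6.WtCyc
import Cfsg.Agent.ClassicalGeometry.SympAutOddA
import Cfsg.Agent.ClassicalGeometry.SympAutExists
import Cfsg.Agent.UGT.U2.FOne.PSpJ

/-!
# S4876, the rows `PSp_2m(q)`, `m ≥ 3` (helper418)
-/

set_option autoImplicit false

namespace Cfsg.Agent.H418.K6

open Cfsg Module Subgroup Cfsg.Agent.H418.KB Cfsg.Agent.H806.KB Cfsg.Agent.H61.K6 Cfsg.Agent.H166.K6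
open Cfsg.Agent.ClassicalGeometry.SympBasic Cfsg.Agent.ClassicalGeometry.SympAutSemi
open Cfsg.Agent.BpCl (Iso mem_Iso)

universe u

local notation "cj" => Cfsg.Agent.ClassicalGeometry.SympAutSemi.conjHom

section hom

variable {F : Type*} [Field F] {m : ℕ} {p : ℕ}

/-- the projection of the isometry group onto `PSp` -/
noncomputable def ph (m : ℕ) (F : Type*) [Field F] : ↥(Gam m F) →* PSp m F :=
  (QuotientGroup.mk' (center ↥(Matrix.symplecticGroup (Fin m) F))).comp (eSp m F).symm.toMonoidHom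

theorem ph_surj : Function.Surjective (ph m F) :=
  (QuotientGroup.mk'_surjective _).comp (eSp m F).symm.surjective

theorem mem_center_of_ph {z : ↥(Gam m F)} (h : ph m F z = 1) : z ∈ center ↥(Gam m F) := by
  have h1 : (eSp m F).symm z ∈ center ↥(Matrix.symplecticGroup (Fin m) F) := (QuotientGroup.eq_one_iff _).1 h
  rw [mem_center_iff]
  intro g
  apply (eSp m F).symm.injective
  rw [map_mul, map_mul]
  exact mem_center_iff.1 h1 _

theorem sq_of_ph {z : ↥(Gam m F)} (h : ph m F z = 1) : z ^ 2 = 1 := sq_center_Gam (mem_center_of_ph h)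

theorem eq_one_of_sq {A : Type*} [Group A] (hp : p.Prime) (h2 : 2 < p) {k : ℕ} {z : A} (h : z ^ 2 = 1)
    (hz : z ^ p ^ k = 1) : z = 1 := by
  have h1 : orderOf z ∣ 2 := orderOf_dvd_of_pow_eq_one h
  have h3 : orderOf z ∣ p ^ k := orderOf_dvd_of_pow_eq_one hz
  have h4 : Nat.Coprime 2 (p ^ k) :=
    Nat.Coprime.pow_right _ ((Nat.coprime_primes Nat.prime_two hp).2 (by omega))
  exact orderOf_eq_one_iff.1 (Nat.eq_one_of_dvd_coprimes h4 h1 h3)

theorem ph_ne_one (hp : p.Prime) (h2 : 2 < p) {k : ℕ} {x : ↥(Gam m F)} (hx : x ^ p ^ k = 1) (h1 : x ≠ 1) :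
    ph m F x ≠ 1 := fun h => h1 (eq_one_of_sq hp h2 (sq_of_ph h) hx)

theorem el_ph (hp : p.Prime) (h2 : 2 < p) {k : ℕ} {x : ↥(Gam m F)} (hx : x ^ p ^ k = 1) (h1 : x ≠ 1) :
    El p (ph m F x) := by
  refine ⟨?_, ph_ne_one hp h2 hx h1⟩
  obtain ⟨j, -, hj⟩ := (Nat.dvd_prime_pow hp).1 (orderOf_dvd_of_pow_eq_one
    (show (ph m F x) ^ p ^ k = 1 by rw [← map_pow, hx, map_one]))
  exact ⟨j, hj⟩

/-- commuting with a `p`-element modulo the kernel -/
theorem comm_of_ph (hp : p.Prime) (h2 : 2 < p) {h x : ↥(Gam m F)} (hc : ph m F h * ph m F x = ph m F x * ph m F h)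
    {k : ℕ} (hx : x ^ p ^ k = 1) : h * x = x * h := by
  obtain ⟨z, hz⟩ : ∃ z, z = h * x * h⁻¹ * x⁻¹ := ⟨_, rfl⟩
  have h1 : ph m F z = 1 := by
    rw [hz, map_mul, map_mul, map_mul, map_inv, map_inv, hc]
    group
  have h3 : h * x * h⁻¹ = z * x := by rw [hz]; group
  have hzc := mem_center_of_ph h1
  have hzx : Commute z x := (mem_center_iff.1 hzc x).symm
  have h4 : (z * x) ^ p ^ k = 1 := by
    rw [← h3, conj_pow, hx, mul_one, mul_inv_cancel]
  rw [hzx.mul_pow, hx, mul_one] at h4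
  have h5 := eq_one_of_sq hp h2 (sq_of_ph h1) h4
  rw [h5, one_mul] at h3
  exact mul_inv_eq_iff_eq_mul.1 h3

/-- a `p`-subgroup of `PSp` commuting with `ph x` is the image of a `p`-subgroup commuting with `x` -/
theorem lift_comm [Finite F] [hp : Fact p.Prime] (h2 : 2 < p) {x : ↥(Gam m F)} {k : ℕ} (hx : x ^ p ^ k = 1)
    {Q : Subgroup (PSp m F)} (hQ : IsPGroup p Q) (hQx : ∀ h ∈ Q, h * ph m F x = ph m F x * h) :
    ∃ R : Subgroup ↥(Gam m F), IsPGroup p R ∧ (∀ h ∈ R, h * x = x * h) ∧ R.map (ph m F) = Q := by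
  have hfin : Finite ↥(Gam m F) := Finite.of_equiv _ (eSp m F).toEquiv
  let C : Subgroup ↥(Gam m F) := Q.comap (ph m F)
  obtain ⟨P⟩ : Nonempty (Sylow p C) := inferInstance
  refine ⟨(P : Subgroup C).map C.subtype, P.isPGroup'.map _, ?_, ?_⟩
  · rintro _ ⟨h, -, rfl⟩
    exact comm_of_ph hp.out h2 (hQx _ h.2) hx
  · let f : C →* Q := ((ph m F).comp C.subtype).codRestrict Q fun c => c.2
    have hf : Function.Surjective f := by
      rintro ⟨y, hy⟩
      obtain ⟨x, rfl⟩ := ph_surj y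
      exact ⟨⟨x, hy⟩, rfl⟩
    have hfin' : Finite Q := Finite.of_surjective f hf
    have h1 : ((P.mapSurjective hf : Sylow p Q) : Subgroup Q) = ⊤ := by
      have h3 : IsPGroup p (⊤ : Subgroup Q) := hQ.of_equiv Subgroup.topEquiv.symm
      exact ((P.mapSurjective hf).3 h3 le_top).symm
    rw [Sylow.coe_mapSurjective] at h1
    apply le_antisymm
    · rintro _ ⟨_, ⟨h, -, rfl⟩, rfl⟩
      exact h.2
    · intro y hy
      have h3 : (⟨y, hy⟩ : Q) ∈ (P : Subgroup C).map f := by rw [h1]; trivial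
      obtain ⟨c, hc, hcy⟩ := h3
      exact ⟨c, ⟨c, hc, rfl⟩, congrArg Subtype.val hcy⟩

/-- **The dimension of the fixed space of a `p`-element is invariant.** -/
theorem fix_eq [Finite F] (hm : 3 ≤ m) (hp : p.Prime) (h2 : 2 < p) {k : ℕ} {x y : ↥(Gam m F)} (hx : x ^ p ^ k = 1)
    (hy : y ^ p ^ k = 1) (σ : PSp m F ≃* PSp m F) (h : σ (ph m F x) = ph m F y) :
    finrank F (fixs (x : (Fin m ⊕ Fin m → F) ≃ₗ[F] (Fin m ⊕ Fin m → F))) =
      finrank F (fixs (y : (Fin m ⊕ Fin m → F) ≃ₗ[F] (Fin m ⊕ Fin m → F))) := by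
  obtain ⟨g, hg⟩ := Cfsg.Agent.ClassicalGeometry.SympAutExists.exists_semi (by omega : 2 ≤ m) (σ : MulAut (PSp m F))
    (Cfsg.Agent.ClassicalGeometry.SympAutOddA.recog (by omega) (Or.inl hm) σ)
  obtain ⟨x₀, rfl⟩ := (eSp m F).surjective x
  obtain ⟨y₀, rfl⟩ := (eSp m F).surjective y
  have hph : ∀ a, ph m F (eSp m F a) = QuotientGroup.mk a := by
    intro a
    show QuotientGroup.mk ((eSp m F).symm (eSp m F a)) = _
    rw [(eSp m F).symm_apply_apply]
  rw [hph, hph] at h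
  have hx₀ : x₀ ^ p ^ k = 1 := (eSp m F).injective (by rw [map_pow, hx, map_one])
  have hy₀ : y₀ ^ p ^ k = 1 := (eSp m F).injective (by rw [map_pow, hy, map_one])
  have h1 : (QuotientGroup.mk (cj m F g x₀) : PSp m F) = QuotientGroup.mk y₀ := by
    have h7 : (Psi m F g) (QuotientGroup.mk x₀) = QuotientGroup.mk y₀ := by rw [hg]; exact h
    exact h7
  have h3 := QuotientGroup.eq.1 h1
  have h4 : cj m F g x₀ = y₀ := by
    obtain ⟨z, hz⟩ : ∃ z, z = (cj m F g x₀)⁻¹ * y₀ := ⟨_, rfl⟩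
    rw [← hz] at h3
    have h5 : y₀ = cj m F g x₀ * z := by rw [hz]; group
    have hc : Commute (cj m F g x₀) z := mem_center_iff.1 h3 _
    have h6 : z ^ p ^ k = 1 := by
      have h7 := hy₀
      rw [h5, hc.mul_pow, ← map_pow, hx₀, map_one, one_mul] at h7
      exact h7
    have h8 := eq_one_of_sq hp h2 (Cfsg.Agent.H952.Rc.sq_center h3) h6
    rw [h5, h8, mul_one]
  have hval : ∀ a v, ((eSp m F a : ↥(Gam m F)) : (Fin m ⊕ Fin m → F) ≃ₗ[F] (Fin m ⊕ Fin m → F)) v = rho m F a v :=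
    fun a v => rfl
  have h5 : ∀ v, rho m F y₀ (g.1 v) = g.1 (rho m F x₀ v) := by
    intro v
    rw [← h4, rho_conjHom, Equiv.Perm.mul_apply, Equiv.Perm.mul_apply]
    congr 2
    exact g.1.symm_apply_apply v
  have hcard : Nat.card (fixs ((eSp m F x₀ : ↥(Gam m F)) : (Fin m ⊕ Fin m → F) ≃ₗ[F] (Fin m ⊕ Fin m → F))) =
      Nat.card (fixs ((eSp m F y₀ : ↥(Gam m F)) : (Fin m ⊕ Fin m → F) ≃ₗ[F] (Fin m ⊕ Fin m → F))) := by
    refine Nat.card_congr (g.1.subtypeEquiv fun v => ?_)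
    rw [mem_fixs, mem_fixs, hval, hval, h5]
    exact g.1.injective.eq_iff.symm
  have h6 := Fintype.ofFinite F
  have e1 := Module.natCard_eq_pow_finrank (K := F)
    (V := fixs ((eSp m F x₀ : ↥(Gam m F)) : (Fin m ⊕ Fin m → F) ≃ₗ[F] (Fin m ⊕ Fin m → F)))
  have e2 := Module.natCard_eq_pow_finrank (K := F)
    (V := fixs ((eSp m F y₀ : ↥(Gam m F)) : (Fin m ⊕ Fin m → F) ≃ₗ[F] (Fin m ⊕ Fin m → F)))
  rw [e1, e2] at hcard
  exact Nat.pow_right_injective (show 2 ≤ Nat.card F by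
    rw [Nat.card_eq_fintype_card]; exact Fintype.one_lt_card) hcard

end hom

end Cfsg.Agent.H418.K6
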