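import Cfsg.Agent.H418.K6.PspRow

/-!
# S4876, the rows `PSp_2m(q)`, `m ≥ 3`, `p ∤ q`: the two rows (helper418)

`psp_one`, `psp_more`.
-/

set_option autoImplicit false

namespace Cfsg.Agent.H418.K6

open Cfsg Module Subgroup Cfsg.Agent.H418.KB Cfsg.Agent.H806.KB Cfsg.Agent.H61.K6 Cfsg.Agent.H166.K6
open Cfsg.Agent.ClassicalGeometry.SympBasic Cfsg.Agent.ClassicalGeometry.SympAutSemi
open Cfsg.Agent.BpCl (Iso mem_Iso)

universe u v

section gen

variable {F V : Type*} [Field F] [Fintype F] [AddCommGroup V] [Module F V] [FiniteDimensional F V] {p : ℕ}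
  {B : V →ₗ[F] V →ₗ[F] F} {G : Subgroup (V ≃ₗ[F] V)} (hp : p.Prime) (hpF : ¬ p ∣ Fintype.card F)

omit [Fintype F] [FiniteDimensional F V] in
theorem triv_pow {x u : V ≃ₗ[F] V} (hu : ∀ v, u (x v - v) = x v - v) (j : ℕ) (v : V) :
    u ((x ^ j) v - v) = (x ^ j) v - v := by
  induction j with
  | zero => simp
  | succ j ih =>
    have h1 : (x ^ (j + 1)) v - v = (x ((x ^ j) v) - (x ^ j) v) + ((x ^ j) v - v) := by
      rw [pow_succ', LinearEquiv.mul_apply]
      abel
    rw [h1, map_add, hu, ih]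

omit [FiniteDimensional F V] in
include hp hpF in
/-- `c` normalises `⟨x⟩` and is trivial on `C_V(x)`, `u` is trivial on `[V, x]` and commutes with `x` -/
theorem comm_c {x u c : V ≃ₗ[F] V} (hxp : x ^ p = 1) (hu : ∀ v, u (x v - v) = x v - v) (hux : u * x = x * u) {j : ℕ}
    (hc : c * x * c⁻¹ = x ^ j) (hcf : ∀ v, x v = v → c v = v) : c * u = u * c := by
  refine LinearEquiv.ext fun v => ?_
  obtain ⟨a, z, ha, rfl⟩ := dec hp hpF hxp v
  have h1 : x (u a) = u a := by rw [← LinearEquiv.mul_apply, ← hux, LinearEquiv.mul_apply, ha]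
  have h3 : c (x z - z) = (x ^ j) (c z) - c z := by
    have h4 : c * x = x ^ j * c := mul_inv_eq_iff_eq_mul.1 hc
    rw [map_sub, ← LinearEquiv.mul_apply, h4, LinearEquiv.mul_apply]
  rw [LinearEquiv.mul_apply, LinearEquiv.mul_apply, map_add, hu, map_add, hcf _ h1, map_add, hcf _ ha, map_add, h3,
    triv_pow hu]

end gen

section rows

variable {F : Type} [Field F] [Fintype F] {m : ℕ} {p : ℕ} [hp : Fact p.Prime]

local notation "VV" => (Fin m ⊕ Fin m → F)

/-- the case of equal dimensions -/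
theorem rowB (hm : 3 ≤ m) (h2 : 2 < p) (hpF : ¬ p ∣ Fintype.card F) (hX : ¬ HasNormalPComplement p (PSp m F))
    {x y : VV ≃ₗ[F] VV} (hx : x ∈ Gam m F) (hxp : x ^ p = 1) (hx1 : x ≠ 1) (hy : y ∈ Gam m F) (hyp : y ^ p = 1)
    (hy1 : y ≠ 1) (htr : ∀ v, y (x v - v) = x v - v)
    (hcx : ∀ R : Subgroup (VV ≃ₗ[F] VV), R ≤ Gam m F → IsPGroup p R → (∀ r ∈ R, ∀ v, r (x v - v) = x v - v) → IsCyclic R)
    (hcy : ∀ R : Subgroup (VV ≃ₗ[F] VV), R ≤ Gam m F → IsPGroup p R → (∀ r ∈ R, ∀ v, r (y v - v) = y v - v) → IsCyclic R)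
    {c : VV ≃ₗ[F] VV} (hcG : c ∈ Gam m F) {j : ℕ} (hcj : c * x * c⁻¹ = x ^ j) (hcf : ∀ v, x v = v → c v = v)
    (hj : 4 ≤ orderOf (j : ZMod p)) : KRow.{u, 0} p (PSp m F) := by
  have hfin := finite_psp (F := F) (m := m)
  obtain ⟨w, hwG, ⟨k, hwk⟩, hyw, hwx, hwy, hQ⟩ := exists_u hp.out hpF splG hx hxp hy hyp hy1 htr hcx hcy
  have hwk' : w ^ p ^ k = 1 := by rw [← hwk]; exact pow_orderOf_eq_one w
  let w' : ↥(Gam m F) := ⟨w, hwG⟩
  let x' : ↥(Gam m F) := ⟨x, hx⟩
  let y' : ↥(Gam m F) := ⟨y, hy⟩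
  let c' : ↥(Gam m F) := ⟨c, hcG⟩
  have hw'k : w' ^ p ^ k = 1 := Subtype.ext hwk'
  have hx'p : x' ^ p = 1 := Subtype.ext hxp
  have hx'k : x' ^ p ^ 1 = 1 := by rw [pow_one]; exact hx'p
  have hwx' : w * x = x * w := comm_of_triv splG hp.out hpF hx hxp hwG hwx
  have hwxc : w' * x' = x' * w' := Subtype.ext hwx'
  have hcw : c' * w' = w' * c' := Subtype.ext (comm_c hp.out hpF hxp hwx hwx' hcj hcf)
  have hw1 : w ≠ 1 := by
    rintro rfl
    rw [zpowers_one_eq_bot, mem_bot] at hyw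
    exact hy1 hyw
  have hpow : ∀ {a : ↥(Gam m F)} {l : ℕ}, a ^ p ^ l = 1 → ∃ i, orderOf (ph m F a) = p ^ i := by
    intro a l ha
    obtain ⟨i, -, hi⟩ := (Nat.dvd_prime_pow hp.out).1 (orderOf_dvd_of_pow_eq_one
      (show (ph m F a) ^ p ^ l = 1 by rw [← map_pow, ha, map_one]))
    exact ⟨i, hi⟩
  have hwt : WtGe.{u, 0} p (ph m F w') 4 := by
    refine WtGe.mono (wtGe_of_cyc (y := ph m F x') (c := ph m F c') (j := j) (hpow hw'k) ?_ ?_ (hpow hx'k) ?_ ?_ ?_) hj
    · rw [← map_mul, ← map_mul, hwxc]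
    · rw [← map_mul, ← map_mul, hcw]
    · rintro ⟨i, hi⟩
      have h1 : ph m F (x' * (w' ^ i)⁻¹) = 1 := by
        rw [map_mul, map_inv, map_zpow]
        have hi' : (ph m F w') ^ i = ph m F x' := hi
        rw [hi', mul_inv_cancel]
      have hcm : Commute x' (w' ^ i)⁻¹ := ((show Commute w' x' from hwxc).symm.zpow_right i).inv_right
      have h3 : (x' * (w' ^ i)⁻¹) ^ p ^ (k + 1) = 1 := by
        rw [hcm.mul_pow, inv_pow, pow_add p k 1, pow_mul (w' ^ i), ← zpow_natCast (w' ^ i), ← zpow_mul, mul_comm i,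
          zpow_mul, zpow_natCast, hw'k, one_zpow, one_pow, inv_one, mul_one, mul_comm (p ^ k), pow_mul, hx'k, one_pow]
      have h4 := eq_one_of_sq hp.out h2 (sq_of_ph h1) h3
      have h5 : x' = w' ^ i := mul_inv_eq_one.1 h4
      have h6 : x = w ^ i := by
        have := congrArg Subtype.val h5
        simpa [x', w'] using this
      -- `x` is trivial on `[V, x]`
      have h7 : ∀ v, x (x v - v) = x v - v := by
        have hle : ∀ r ∈ zpowers w, ∀ v, r (x v - v) = x v - v := by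
          let L : Subgroup (VV ≃ₗ[F] VV) :=
            { carrier := {g | ∀ v, g (x v - v) = x v - v}
              one_mem' := fun v => rfl
              mul_mem' := by
                intro a b ha hb v
                rw [LinearEquiv.mul_apply, hb, ha]
              inv_mem' := by
                intro a ha v
                conv_lhs => rw [← ha v]
                rw [← LinearEquiv.mul_apply, inv_mul_cancel]
                rfl }
          have : zpowers w ≤ L := by
            rw [zpowers_le]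
            exact hwx
          exact fun r hr => this hr
        exact hle x ⟨i, h6.symm⟩
      apply hx1
      refine LinearEquiv.ext fun v => ?_
      have h8 := inter hp.out hpF hxp (h7 v) rfl
      rw [sub_eq_zero] at h8
      exact h8
    · rw [← map_mul, ← map_inv, ← map_mul, ← map_pow]
      congr 1
      exact Subtype.ext hcj
    · intro Q hQp hQw
      obtain ⟨R, hRp, hRw, hRQ⟩ := lift_comm h2 hw'k hQp hQw
      obtain ⟨_, ⟨g, hg, rfl⟩, hgall⟩ := hQ (R.map (Gam m F).subtype) (by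
        rintro _ ⟨g, -, rfl⟩
        exact g.2) (hRp.map _) (by
        rintro _ ⟨g, hg, rfl⟩
        exact congrArg Subtype.val (hRw g hg))
      refine ⟨ph m F g, by rw [← hRQ]; exact ⟨g, hg, rfl⟩, fun h hh => ?_⟩
      rw [← hRQ] at hh
      obtain ⟨h₀, hh₀, rfl⟩ := hh
      obtain ⟨i, l, hil⟩ := hgall h₀.1 ⟨h₀, hh₀, rfl⟩
      refine ⟨i, l, ?_⟩
      rw [← map_zpow, ← map_zpow, ← map_mul]
      congr 1
      exact Subtype.ext (by simpa [w'] using hil)
  -- the fixed spaces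
  have hfw : fixs w = fixs y := by
    apply le_antisymm
    · intro v hv
      rw [mem_fixs] at hv ⊢
      have : zpowers w ≤ (MulAction.stabilizer (VV ≃ₗ[F] VV) v) := by
        rw [zpowers_le]
        exact hv
      exact this hyw
    · intro v hv
      exact mem_fixs.2 (hwy v (mem_fixs.1 hv))
  have h1 := Submodule.finrank_lt_finrank_of_lt (fixs_mul_lt' hp.out hpF splG hx hxp hy htr hx1)
  have hc : Commute x' y' := (Subtype.ext (comm_of_triv splG hp.out hpF hx hxp hy htr) : y' * x' = x' * y').symm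
  have hxy : (x' * y') ^ p ^ 1 = 1 := by
    rw [hc.mul_pow, hx'k, one_mul, pow_one]
    exact Subtype.ext hyp
  have hxy1 : x' * y' ≠ 1 := by
    intro h
    have h4 : x * y = 1 := congrArg Subtype.val h
    rw [h4] at h1
    have h5 : fixs (1 : VV ≃ₗ[F] VV) = ⊤ := by
      rw [eq_top_iff]
      exact fun v _ => mem_fixs.2 rfl
    rw [h5, finrank_top] at h1
    have h6 := Submodule.finrank_le (fixs y)
    omega
  refine row_of_list hX (k := 2) ![ph m F w', ph m F (x' * y')] ![4, 1] ?_ ?_ ?_ ?_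
  · intro i
    fin_cases i
    · exact el_ph hp.out h2 hw'k fun h => hw1 (congrArg Subtype.val h)
    · exact el_ph hp.out h2 hxy hxy1
  · intro i j hij σ
    fin_cases i <;> fin_cases j <;> first | exact absurd hij (by decide) | skip
    refine ne_of_finrank hm h2 hw'k hxy ?_ σ
    show finrank F (fixs w) ≠ finrank F (fixs (x * y))
    rw [hfw]
    exact ne_of_gt h1
  · intro i
    fin_cases i
    · exact hwt
    · exact wtGe_one _
  · decide

theorem three (q : ZMod 3) : q ≠ 0 → q ^ 2 = 1 := by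
  revert q; decide

theorem five (q : ZMod 5) : q ≠ 0 → q ^ 2 ≠ 1 → ∃ e : Bool, ∀ i ∈ [1, 2, 3], (if e then q else -q) ^ i ≠ 1 := by
  revert q; decide

theorem seven (q : ZMod 7) : q ≠ 0 → q ^ 2 ≠ 1 → ∃ e : Bool, ∀ i ∈ [1, 2, 3], (if e then q else -q) ^ i ≠ 1 := by
  revert q; decide

theorem four_le {q : ZMod p} (hq : q ≠ 0) (h : ∀ i ∈ [1, 2, 3], q ^ i ≠ 1) : 4 ≤ orderOf q := by
  have h0 : 0 < orderOf q := by
    rw [orderOf_pos_iff]
    have h1 : IsOfFinOrder (Units.mk0 q hq) := isOfFinOrder_of_finite _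
    exact (Units.isOfFinOrder_val (u := Units.mk0 q hq)).2 h1
  by_contra hcon
  have h1 := pow_orderOf_eq_one q
  exact h (orderOf q) (by
    have : orderOf q = 1 ∨ orderOf q = 2 ∨ orderOf q = 3 := by omega
    simp only [List.mem_cons, List.not_mem_nil, or_false]
    exact this) h1

/-- **`p ∤ q² - 1`** -/
theorem row_more (hm : 3 ≤ m) (hpr : p = 3 ∨ p = 5 ∨ p = 7) (hpF : ¬ p ∣ Fintype.card F)
    (hd : ¬ p ∣ Fintype.card F ^ 2 - 1) (hX : ¬ HasNormalPComplement p (PSp m F))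
    (hP : ∀ P : Sylow p (PSp m F), ¬ IsCyclic (P : Subgroup (PSp m F))) : KRow.{u, 0} p (PSp m F) := by
  have h2 : 2 < p := by omega
  have hne : NeZero (p : F) := ⟨p_ne (F := F) hp.out hpF⟩
  have hp0 : NeZero p := ⟨hp.out.ne_zero⟩
  have hfin := finite_psp (F := F) (m := m)
  obtain ⟨P, hPG, hPp, hPc⟩ := exists_noncyclic (MulEquiv.refl (PSp m F)) hP
  have hζ := IsCyclotomicExtension.zeta_spec p F (CyclotomicField p F)
  have hfdK : FiniteDimensional F (CyclotomicField p F) := IsCyclotomicExtension.finiteDimensional {p} F _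
  obtain ⟨x, y, hxy⟩ := exists_min hp.out h2 hpF hζ splG hPG hPp hPc
  by_cases hdim : finrank F (fixs x) = finrank F (fixs y)
  · have hyx := hxy.symm hp.out hpF splG hdim
    -- the elements normalising `⟨x⟩`
    obtain ⟨c₁, hc₁, hc₁x, hc₁f⟩ := H560.KBConj.conj_q splG hp.out h2 hpF hxy.pair.mx hxy.pair.ox
    obtain ⟨c₂, hc₂, hc₂x, hc₂f⟩ := H560.KBConj.conj_inv splG hp.out h2 hpF hxy.pair.mx hxy.pair.ox
    have hq0 : (Fintype.card F : ZMod p) ≠ 0 := by rwa [Ne, ZMod.natCast_eq_zero_iff]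
    have hq1 : (Fintype.card F : ZMod p) ^ 2 ≠ 1 := by
      intro h
      apply hd
      rw [← ZMod.natCast_eq_zero_iff, Nat.cast_sub (Nat.one_le_pow _ _ Fintype.card_pos), Nat.cast_pow, h, Nat.cast_one,
        sub_self]
    have key : ∃ e : Bool, ∀ i ∈ [1, 2, 3], (if e then (Fintype.card F : ZMod p) else -(Fintype.card F : ZMod p)) ^ i ≠ 1 := by
      rcases hpr with rfl | rfl | rfl
      · exact absurd hq1 (by rw [three _ hq0]; exact fun h => h rfl)
      · exact five _ hq0 hq1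
      · exact seven _ hq0 hq1
    have hcj : ∃ c ∈ Gam m F, ∃ j : ℕ, c * x * c⁻¹ = x ^ j ∧ (∀ v, x v = v → c v = v) ∧ 4 ≤ orderOf (j : ZMod p) := by
      obtain ⟨e, he⟩ := key
      cases e with
      | true =>
        rw [if_pos rfl] at he
        exact ⟨c₁, hc₁, Fintype.card F, hc₁x, hc₁f, four_le hq0 he⟩
      | false =>
        rw [if_neg (by decide)] at he
        refine ⟨c₁ * c₂, (Gam m F).mul_mem hc₁ hc₂, (p - 1) * Fintype.card F, ?_, fun v hv => ?_, ?_⟩
        · have h1 : c₁ * c₂ * x * (c₁ * c₂)⁻¹ = (c₁ * x * c₁⁻¹)⁻¹ := by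
            calc c₁ * c₂ * x * (c₁ * c₂)⁻¹ = c₁ * (c₂ * x * c₂⁻¹) * c₁⁻¹ := by group
              _ = (c₁ * x * c₁⁻¹)⁻¹ := by rw [hc₂x]; group
          rw [h1, hc₁x]
          rw [inv_eq_iff_mul_eq_one, ← pow_add]
          have h3 : Fintype.card F + (p - 1) * Fintype.card F = p * Fintype.card F := by
            have := hp.out.pos
            obtain ⟨r, hr⟩ : ∃ r, p = r + 1 := ⟨p - 1, by omega⟩
            rw [hr, Nat.add_sub_cancel]
            ring
          rw [h3, pow_mul, hxy.pair.ox, one_pow]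
        · rw [LinearEquiv.mul_apply, hc₂f v hv, hc₁f v hv]
        · have h3 : (((p - 1) * Fintype.card F : ℕ) : ZMod p) = -(Fintype.card F : ZMod p) := by
            rw [Nat.cast_mul, Nat.cast_sub hp.out.one_lt.le, ZMod.natCast_self, Nat.cast_one, zero_sub, neg_one_mul]
          rw [h3]
          exact four_le (neg_ne_zero.2 hq0) he
    obtain ⟨c, hcG, j, hcx, hcf, hj⟩ := hcj
    exact rowB hm h2 hpF hX hxy.pair.mx hxy.pair.ox hxy.pair.nx hxy.pair.my hxy.pair.oy hxy.pair.ny hxy.pair.triv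
      (fun R hR hRp htr => hxy.cyc hp.out h2 hpF hζ splG hR hRp htr)
      (fun R hR hRp htr => hyx.cyc hp.out h2 hpF hζ splG hR hRp htr) hcG hcx hcf hj
  · exact rowA hm h2 hpF hX (x := ⟨x, hxy.pair.mx⟩) (y := ⟨y, hxy.pair.my⟩) (Subtype.ext hxy.pair.ox)
      (Subtype.ext hxy.pair.oy) (fun h => hxy.pair.nx (congrArg Subtype.val h))
      (fun h => hxy.pair.ny (congrArg Subtype.val h)) hxy.pair.triv hdim

open Cfsg.Agent.UGT.U2.FOne.PSpJ in
/-- **`p ∣ q² - 1`** -/
theorem row_one (hm : 3 ≤ m) (h2 : 2 < p) (hpF : ¬ p ∣ Fintype.card F) (hd : p ∣ Fintype.card F ^ 2 - 1)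
    (hX : ¬ HasNormalPComplement p (PSp m F)) : KRow.{u, 0} p (PSp m F) := by
  classical
  -- an element of order `p` of `SL₂(q)`
  have hcard : p ∣ Nat.card (Matrix.SpecialLinearGroup (Fin 2) F) := by
    have h1 := S0242.result (F := F) rfl 2 (by norm_num)
    rw [Fin.prod_univ_two] at h1
    have hq : 1 < Fintype.card F := Fintype.one_lt_card
    have h3 : (Fintype.card F - 1) * Nat.card (Matrix.SpecialLinearGroup (Fin 2) F) =
        (Fintype.card F - 1) * ((Fintype.card F ^ 2 - 1) * Fintype.card F) := by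
      rw [h1]
      have h4 : Fintype.card F ^ 2 - Fintype.card F ^ 1 = (Fintype.card F - 1) * Fintype.card F := by
        rw [Nat.sub_mul, one_mul, pow_one, sq]
      show (Fintype.card F ^ 2 - Fintype.card F ^ 0) * (Fintype.card F ^ 2 - Fintype.card F ^ 1) = _
      rw [h4, pow_zero]
      ring
    have h5 := Nat.eq_of_mul_eq_mul_left (by omega) h3
    rw [h5]
    exact Dvd.dvd.mul_right hd _
  obtain ⟨A, hA⟩ := exists_prime_orderOf_dvd_card' (G := Matrix.SpecialLinearGroup (Fin 2) F) p hcard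
  have hA1 : A ≠ 1 := by
    rintro rfl
    rw [orderOf_one] at hA
    exact hp.out.one_lt.ne hA
  have hAp : A ^ p = 1 := by rw [← hA]; exact pow_orderOf_eq_one A
  let i : Fin 3 → Fin m := fun k => ⟨k, by have := k.2; omega⟩
  have hi : ∀ k l, k ≠ l → i k ≠ i l := fun k l hkl h => hkl (Fin.ext (by simpa [i] using h))
  let uu : Fin 3 → VV := fun k => Pi.single (Sum.inr (i k)) 1
  let ww : Fin 3 → VV := fun k => Pi.single (Sum.inl (i k)) 1
  have huw : ∀ k, sympForm m F (uu k) (ww k) = 1 := by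
    intro k
    show sympForm m F (Pi.single (Sum.inr (i k)) 1) (Pi.single (Sum.inl (i k)) 1) = 1
    rw [sympForm_single_inr_left, Pi.single_eq_same]
  have huu : ∀ k l, sympForm m F (uu k) (uu l) = 0 := by
    intro k l
    show sympForm m F (Pi.single (Sum.inr (i k)) 1) (Pi.single (Sum.inr (i l)) 1) = 0
    rw [sympForm_single_inr_left, Pi.single_eq_of_ne (by simp)]
  have hww : ∀ k l, sympForm m F (ww k) (ww l) = 0 := by
    intro k l
    show sympForm m F (Pi.single (Sum.inl (i k)) 1) (Pi.single (Sum.inl (i l)) 1) = 0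
    rw [sympForm_single_inl_left, Pi.single_eq_of_ne (by simp), neg_zero]
  have huw' : ∀ k l, k ≠ l → sympForm m F (uu k) (ww l) = 0 := by
    intro k l hkl
    show sympForm m F (Pi.single (Sum.inr (i k)) 1) (Pi.single (Sum.inl (i l)) 1) = 0
    rw [sympForm_single_inr_left, Pi.single_eq_of_ne]
    intro h
    exact hi k l hkl (Sum.inl_injective h)
  let T : Fin 3 → ↥(Gam m F) := fun k => eSp m F (phi (huw k) A)
  have hTp : ∀ k, T k ^ p = 1 := by
    intro k
    show (eSp m F (phi (huw k) A)) ^ p = 1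
    rw [← map_pow, ← map_pow, hAp, map_one, map_one]
  have hT1 : ∀ k, T k ≠ 1 := by
    intro k h
    have h1 : eSp m F (phi (huw k) A) = eSp m F 1 := by rw [map_one]; exact h
    have h3 := (eSp m F).injective h1
    exact hA1 (phi_injective (huw k) (by rw [h3, map_one]))
  have hTv : ∀ k v, (T k).1 v = rho m F (phi (huw k) A) v := fun k v => rfl
  have hTfix : ∀ k v, sympForm m F (uu k) v = 0 → sympForm m F v (ww k) = 0 → (T k).1 v = v := fun k v h1 h3 =>
    (mem_range_iff (huw k) _).1 ⟨A, rfl⟩ v h1 h3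
  have hdis : ∀ k l, k ≠ l → ∀ v, (T k).1 ((T l).1 v - v) = (T l).1 v - v := by
    intro k l hkl v
    have h1 : (T l).1 v - v = ((A.1 0 0 - 1) * sympForm m F v (ww l) + A.1 0 1 * sympForm m F (uu l) v) • uu l +
        (A.1 1 0 * sympForm m F v (ww l) + (A.1 1 1 - 1) * sympForm m F (uu l) v) • ww l := by
      rw [hTv, rho_phi, act_def]
      abel
    rw [h1]
    apply hTfix
    · rw [sympForm_add_right, sympForm_smul_right, sympForm_smul_right, huu, huw' k l hkl]
      ring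
    · rw [sympForm_add_left, sympForm_smul_left, sympForm_smul_left, huw' l k hkl.symm, hww]
      ring
  exact rowT hm h2 hpF hX (hTp 0) (hTp 1) (hTp 2) (hT1 0) (hT1 1) (hT1 2) (hdis 1 0 (by decide)) (hdis 2 0 (by decide))
    (hdis 2 1 (by decide))

end rows

section final

open Cfsg.Agent.H436 Cfsg.Agent.OrdDiv

variable {S : Type u} [Group S] [Finite S] [IsSimpleGroup S] {p : ℕ} [hp : Fact p.Prime] {m q : ℕ}

theorem compl_of {X : Type*} [Group X] (e : S ≃* X) (hna : ¬ ∀ x y : S, Commute x y) (hd : p ∣ Nat.card S) :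
    ¬ HasNormalPComplement p X := by
  have : Finite X := Finite.of_equiv _ e.toEquiv
  have : IsSimpleGroup X := (MulEquiv.isSimpleGroup_congr e).1 inferInstance
  refine not_compl_of_simple ?_ (by rwa [← Nat.card_congr e.toEquiv])
  push Not at hna
  obtain ⟨x, y, hxy⟩ := hna
  refine ⟨e x, e y, fun h => hxy ?_⟩
  rw [← map_mul, ← map_mul] at h
  exact e.injective h

/-- **The row `PSp_2m(q)`, `m ≥ 3`, `p ∣ q² - 1`.** -/
theorem psp_one (hpr : p = 3 ∨ p = 5 ∨ p = 7) (hna : ¬ ∀ x y : S, Commute x y) (htwo : p ^ 2 ∣ Nat.card S) (hm : 3 ≤ m)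
    (h : IsNamed (.psp m q) S) (hq : ¬ p ∣ q) (hd : p ∣ q ^ 2 - 1) : KRow.{u, u} p S := by
  obtain ⟨F, _, _, rfl, ⟨e⟩⟩ := h.real
  exact (row_one hm (by omega) hq hd (compl_of e hna ((dvd_pow_self p two_ne_zero).trans htwo))).congr e.symm

/-- **The row `PSp_2m(q)`, `m ≥ 3`, `p ∤ q² - 1`.** -/
theorem psp_more (hpr : p = 3 ∨ p = 5 ∨ p = 7) (hna : ¬ ∀ x y : S, Commute x y) (htwo : p ^ 2 ∣ Nat.card S)
    (hnc : ∀ Q : Sylow p S, ¬ IsCyclic (Q : Subgroup S)) (hm : 3 ≤ m)
    (h : IsNamed (.psp m q) S) (hq : ¬ p ∣ q) (hd : ¬ p ∣ q ^ 2 - 1) : KRow.{u, u} p S := by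
  obtain ⟨F, _, _, rfl, ⟨e⟩⟩ := h.real
  have hfin : Finite (PSp m F) := finite_psp
  refine (row_more hm hpr hq hd (compl_of e hna ((dvd_pow_self p two_ne_zero).trans htwo)) fun P hP => ?_).congr e.symm
  let f : PSp m F →* S := e.symm.toMonoidHom
  have hf : Function.Surjective f := e.symm.surjective
  apply hnc (P.mapSurjective hf)
  rw [Sylow.coe_mapSurjective]
  exact isCyclic_of_surjective _ (f.subgroupMap_surjective (P : Subgroup (PSp m F)))

end final

end Cfsg.Agent.H418.K6
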