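import Cfsg.Agent.H418.K6.Psp
import Cfsg.Agent.H436.Names
import Cfsg.Agent.S0242

/-!
# S4876, the rows `PSp_2m(q)`, `m ≥ 3`, `p ∤ q` (helper418)
-/

set_option autoImplicit false

namespace Cfsg.Agent.H418.K6

open Cfsg Module Subgroup Cfsg.Agent.H418.KB Cfsg.Agent.H806.KB Cfsg.Agent.H61.K6 Cfsg.Agent.H166.K6
open Cfsg.Agent.ClassicalGeometry.SympBasic Cfsg.Agent.ClassicalGeometry.SympAutSemi
open Cfsg.Agent.BpCl (Iso mem_Iso)

universe u v

/-- a row from a list of elements (helper166) -/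
theorem row_of_list {p : ℕ} {X : Type v} [Group X] [Finite X] (hX : ¬ HasNormalPComplement p X) {k : ℕ} (x : Fin k → X)
    (w : Fin k → ℕ) (hel : ∀ i, El p (x i)) (hne : ∀ i j, i < j → ∀ σ : X ≃* X, σ (x i) ≠ x j)
    (hw : ∀ i, WtGe.{u, v} p (x i) (w i)) (hn : 5 ≤ ∑ i, w i) : KRow.{u, v} p X := by
  classical
  have hne' : ∀ i j, i ≠ j → ∀ σ : X ≃* X, σ (x i) ≠ x j := by
    intro i j hij σ
    rcases lt_or_gt_of_ne hij with h | h
    · exact hne i j h σ
    · intro h1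
      exact hne j i h σ.symm (by rw [← h1, σ.symm_apply_apply])
  have hinj : Function.Injective x := by
    intro i j hij
    by_contra h
    exact hne' i j h (MulEquiv.refl _) hij
  let w' : X → ℕ := fun y => if h : ∃ i, x i = y then w h.choose else 0
  have hw' : ∀ i, w' (x i) = w i := by
    intro i
    have h : ∃ i', x i' = x i := ⟨i, rfl⟩
    have h1 : w' (x i) = w h.choose := dif_pos h
    rw [h1, hinj h.choose_spec]
  refine KRow.of_weights hX (Finset.univ.image x) ?_ ?_ w' ?_ ?_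
  · intro y hy
    obtain ⟨i, -, rfl⟩ := Finset.mem_image.1 hy
    exact hel i
  · intro y hy z hz σ hσ
    obtain ⟨i, -, rfl⟩ := Finset.mem_image.1 hy
    obtain ⟨j, -, rfl⟩ := Finset.mem_image.1 hz
    by_contra h
    exact hne' i j (fun h1 => h (by rw [h1])) σ hσ
  · intro y hy
    obtain ⟨i, -, rfl⟩ := Finset.mem_image.1 hy
    rw [hw']
    exact hw i
  · rw [Finset.sum_image fun a _ b _ h => hinj h]
    simp only [hw']
    exact hn

section rows

variable {F : Type} [Field F] [Fintype F] {m : ℕ} {p : ℕ} [hp : Fact p.Prime]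

local notation "VV" => (Fin m ⊕ Fin m → F)

theorem splG : Spl (sympBilin m F) (Gam m F) :=
  spl_alt (fun v => sympForm_self v) fun u hu => eq_zero_of_forall_sympForm_right hu

theorem finite_psp : Finite (PSp m F) := by
  have : Finite ↥(Gam m F) := Finite.of_equiv _ (eSp m F).toEquiv
  exact Finite.of_surjective _ (ph_surj (m := m) (F := F))

/-- weight 2 -/
theorem wt2 (h2 : 2 < p) (hpF : ¬ p ∣ Fintype.card F) {x y : ↥(Gam m F)} (hx : x ^ p = 1) (hy : y ^ p = 1) (hy1 : y ≠ 1)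
    (htr : ∀ v, y.1 (x.1 v - v) = x.1 v - v) : WtGe.{u, 0} p (ph m F x) 2 := by
  have hfin := finite_psp (F := F) (m := m)
  have hx' : x.1 ^ p = 1 := congrArg Subtype.val hx
  have hy' : y.1 ^ p = 1 := congrArg Subtype.val hy
  obtain ⟨c, hc, hcy, hcf⟩ := H560.KBConj.conj_inv (splG (m := m) (F := F)) hp.out h2 hpF y.2 hy'
  have h1 : y * x = x * y := Subtype.ext (comm_of_triv splG hp.out hpF x.2 hx' y.2 htr)
  let c' : ↥(Gam m F) := ⟨c, hc⟩
  have h3 : c' * x = x * c' := Subtype.ext (comm_of_triv splG hp.out hpF x.2 hx' hc fun v => hcf _ (htr v))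
  have h4 : c' * y = y⁻¹ * c' := by
    apply Subtype.ext
    show c * y.1 = y.1⁻¹ * c
    rw [← hcy, inv_mul_cancel_right]
  have h5 : wt p (ph m F x) = 2 := by
    refine wt_two_of_inv (p := p) (by omega) (y := ph m F y) (c := ph m F c') ?_ ?_ ?_ ?_ ?_
    · rw [← map_mul, h1, map_mul]
    · rw [← map_mul, h3, map_mul]
    · exact ph_ne_one hp.out h2 (k := 1) (by rw [pow_one]; exact hy) hy1
    · rw [← map_pow, hy, map_one]
    · rw [← map_mul, h4, map_mul, map_inv]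
  have h6 := wtGe_wt.{u, 0} (p := p) (ph m F x)
  rwa [h5] at h6

/-- elements with fixed spaces of different dimensions -/
theorem ne_of_finrank (hm : 3 ≤ m) (h2 : 2 < p) {k l : ℕ} {x y : ↥(Gam m F)} (hx : x ^ p ^ k = 1) (hy : y ^ p ^ l = 1)
    (h : finrank F (fixs x.1) ≠ finrank F (fixs y.1)) (σ : PSp m F ≃* PSp m F) : σ (ph m F x) ≠ ph m F y := by
  intro h1
  refine h (fix_eq hm hp.out h2 (k := k + l) ?_ ?_ σ h1)
  · rw [pow_add, pow_mul, hx, one_pow]
  · rw [add_comm, pow_add, pow_mul, hy, one_pow]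

/-- three disjoint elements of order `p`, or two of different dimensions: the common part -/
theorem row3 (hm : 3 ≤ m) (h2 : 2 < p) (hX : ¬ HasNormalPComplement p (PSp m F)) {x y z : ↥(Gam m F)}
    (hx : x ^ p = 1) (hy : y ^ p = 1) (hz : z ^ p = 1) (hx1 : x ≠ 1) (hy1 : y ≠ 1) (hz1 : z ≠ 1)
    (hwx : WtGe.{u, 0} p (ph m F x) 2) (hwy : WtGe.{u, 0} p (ph m F y) 2)
    (hxy : finrank F (fixs x.1) ≠ finrank F (fixs y.1)) (hxz : finrank F (fixs x.1) ≠ finrank F (fixs z.1))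
    (hyz : finrank F (fixs y.1) ≠ finrank F (fixs z.1)) : KRow.{u, 0} p (PSp m F) := by
  have hfin := finite_psp (F := F) (m := m)
  have e1 : ∀ {a : ↥(Gam m F)}, a ^ p = 1 → a ^ p ^ 1 = 1 := fun h => by rw [pow_one]; exact h
  refine row_of_list hX (k := 3) ![ph m F x, ph m F y, ph m F z] ![2, 2, 1] ?_ ?_ ?_ ?_
  · intro i
    fin_cases i
    · exact el_ph hp.out h2 (e1 hx) hx1
    · exact el_ph hp.out h2 (e1 hy) hy1
    · exact el_ph hp.out h2 (e1 hz) hz1
  · intro i j hij σ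
    fin_cases i <;> fin_cases j <;> first | exact absurd hij (by decide) | skip
    · exact ne_of_finrank hm h2 (e1 hx) (e1 hy) hxy σ
    · exact ne_of_finrank hm h2 (e1 hx) (e1 hz) hxz σ
    · exact ne_of_finrank hm h2 (e1 hy) (e1 hz) hyz σ
  · intro i
    fin_cases i
    · exact hwx
    · exact hwy
    · exact wtGe_one _
  · decide

/-- two disjoint elements of different dimensions -/
theorem rowA (hm : 3 ≤ m) (h2 : 2 < p) (hpF : ¬ p ∣ Fintype.card F) (hX : ¬ HasNormalPComplement p (PSp m F))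
    {x y : ↥(Gam m F)} (hx : x ^ p = 1) (hy : y ^ p = 1) (hx1 : x ≠ 1) (hy1 : y ≠ 1)
    (htr : ∀ v, y.1 (x.1 v - v) = x.1 v - v) (hne : finrank F (fixs x.1) ≠ finrank F (fixs y.1)) :
    KRow.{u, 0} p (PSp m F) := by
  have hx' : x.1 ^ p = 1 := congrArg Subtype.val hx
  have hy' : y.1 ^ p = 1 := congrArg Subtype.val hy
  have hx1' : x.1 ≠ 1 := fun h => hx1 (Subtype.ext h)
  have hy1' : y.1 ≠ 1 := fun h => hy1 (Subtype.ext h)
  have h1 := Submodule.finrank_lt_finrank_of_lt (fixs_mul_lt hp.out hpF splG x.2 hx' y.2 htr hy1')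
  have h3 := Submodule.finrank_lt_finrank_of_lt (fixs_mul_lt' hp.out hpF splG x.2 hx' y.2 htr hx1')
  have hc : Commute x y := (Subtype.ext (comm_of_triv splG hp.out hpF x.2 hx' y.2 htr) : y * x = x * y).symm
  refine row3 hm h2 hX (z := x * y) hx hy (by rw [hc.mul_pow, hx, hy, one_mul]) hx1 hy1 ?_
    (wt2 h2 hpF hx hy hy1 htr) (wt2 h2 hpF hy hx hx1 (triv_symm hp.out hpF splG x.2 hx' y.2 htr)) hne ?_ ?_
  · intro h
    have h4 : x.1 * y.1 = 1 := congrArg Subtype.val h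
    rw [h4] at h1
    have h5 : fixs (1 : VV ≃ₗ[F] VV) = ⊤ := by
      rw [eq_top_iff]
      exact fun v _ => mem_fixs.2 rfl
    rw [h5, finrank_top] at h1
    have h6 := Submodule.finrank_le (fixs x.1)
    omega
  · exact ne_of_gt h1
  · exact ne_of_gt h3

/-- three disjoint elements -/
theorem rowT (hm : 3 ≤ m) (h2 : 2 < p) (hpF : ¬ p ∣ Fintype.card F) (hX : ¬ HasNormalPComplement p (PSp m F))
    {x y z : ↥(Gam m F)} (hx : x ^ p = 1) (hy : y ^ p = 1) (hz : z ^ p = 1) (hx1 : x ≠ 1) (hy1 : y ≠ 1) (hz1 : z ≠ 1)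
    (htr : ∀ v, y.1 (x.1 v - v) = x.1 v - v) (hzx : ∀ v, z.1 (x.1 v - v) = x.1 v - v)
    (hzy : ∀ v, z.1 (y.1 v - v) = y.1 v - v) : KRow.{u, 0} p (PSp m F) := by
  have hx' : x.1 ^ p = 1 := congrArg Subtype.val hx
  have hy' : y.1 ^ p = 1 := congrArg Subtype.val hy
  have hx1' : x.1 ≠ 1 := fun h => hx1 (Subtype.ext h)
  have hy1' : y.1 ≠ 1 := fun h => hy1 (Subtype.ext h)
  have hz1' : z.1 ≠ 1 := fun h => hz1 (Subtype.ext h)
  have hc : Commute x y := (Subtype.ext (comm_of_triv splG hp.out hpF x.2 hx' y.2 htr) : y * x = x * y).symm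
  have hxy : (x * y) ^ p = 1 := by rw [hc.mul_pow, hx, hy, one_mul]
  have hxy' : (x * y).1 ^ p = 1 := congrArg Subtype.val hxy
  have hzxy : ∀ v, z.1 ((x * y).1 v - v) = (x * y).1 v - v := by
    intro v
    have h1 : (x * y).1 v - v = (x.1 (y.1 v) - y.1 v) + (y.1 v - v) := by
      show x.1 (y.1 v) - v = _
      abel
    rw [h1, map_add, hzx, hzy]
  have hc' : Commute (x * y) z := (Subtype.ext (comm_of_triv splG hp.out hpF (x * y).2 hxy' z.2 hzxy) :
    z * (x * y) = (x * y) * z).symm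
  have h1 := Submodule.finrank_lt_finrank_of_lt (fixs_mul_lt hp.out hpF splG x.2 hx' y.2 htr hy1')
  have h3 := Submodule.finrank_lt_finrank_of_lt (fixs_mul_lt hp.out hpF splG (x * y).2 hxy' z.2 hzxy hz1')
  have htop : ∀ a : ↥(Gam m F), finrank F (fixs a.1) < finrank F VV → a ≠ 1 := by
    rintro a h rfl
    have h5 : fixs (1 : VV ≃ₗ[F] VV) = ⊤ := by
      rw [eq_top_iff]
      exact fun v _ => mem_fixs.2 rfl
    rw [show ((1 : ↥(Gam m F)) : VV ≃ₗ[F] VV) = 1 from rfl, h5, finrank_top] at h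
    exact lt_irrefl _ h
  have h6 := Submodule.finrank_le (fixs x.1)
  have h7 : finrank F (fixs (x * y).1) < finrank F (fixs x.1) := h1
  have h8 : finrank F (fixs (x * y * z).1) < finrank F (fixs (x * y).1) := h3
  refine row3 hm h2 hX (x := x) (y := x * y) (z := x * y * z) hx hxy (by rw [hc'.mul_pow, hxy, hz, one_mul]) hx1
    (htop _ (by omega)) (htop _ (by omega)) (wt2 h2 hpF hx hy hy1 htr) (wt2 h2 hpF hxy hz hz1 hzxy) ?_ ?_ ?_
  · exact ne_of_gt h7
  · exact ne_of_gt (h8.trans h7)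
  · exact ne_of_gt h8

end rows

end Cfsg.Agent.H418.K6
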